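import Groth.Agent.Lib.QSec28.Scheme
import Groth.Agent.Lib.FlatClosure.Basic
import Mathlib.AlgebraicGeometry.Morphisms.UniversallyOpen

/-!
EGA IV 14.5.3 and its application to a base regular of dimension one.
-/

universe u

open CategoryTheory CategoryTheory.Limits AlgebraicGeometry TopologicalSpace

noncomputable section

namespace GrothLib.QSec28

variable {X Y : Scheme.{u}}

/-- A quasi-section through `x`. -/
def HasQSec (f : X ⟶ Y) (x : X) (S : Set X) : Prop :=
  ∃ (T : Scheme.{u}) (i : T ⟶ X), IsImmersion i ∧ IrreducibleSpace ↥T ∧ IsReduced T ∧ x ∈ Set.range i.base ∧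
    Set.range i.base ⊆ S ∧
    LocallyOfFiniteType (i ≫ f) ∧ LocallyQuasiFinite (i ≫ f) ∧ QuasiCompact (i ≫ f) ∧ IsDominant (i ≫ f)

theorem exists_quasiSection_of_isEquidimAt [IrreducibleSpace Y] [IsLocallyNoetherian Y] (f : X ⟶ Y)
    [LocallyOfFiniteType f] (x : X) (hf : EGA43.IsEquidimAt f x)
    (hcl : ∀ x' : X, f x' = f x → x ⤳ x' → x' = x) :
    ∃ (T : Scheme.{u}) (i : T ⟶ X), IsImmersion i ∧ IrreducibleSpace ↥T ∧ IsReduced T ∧ x ∈ Set.range i.base ∧
        LocallyOfFiniteType (i ≫ f) ∧ LocallyQuasiFinite (i ≫ f) ∧ QuasiCompact (i ≫ f) ∧ IsDominant (i ≫ f) := by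
  obtain ⟨e, U, hxU, hdom, hdim⟩ := hf
  let g := U.ι ≫ f
  have hfd : ∀ u, FlatMor.fibreDimAt g u = (e : WithBot ℕ∞) := fun u =>
    haveI : LocallyOfFiniteType (g.fiberToSpecResidueField (g u)) :=
      MorphismProperty.pullback_snd g _ inferInstance
    (GrothLib.Equidim6.equidim_iff (K := Y.residueField (g u)) (g.fiberToSpecResidueField (g u)) e).1
      (hdim u) (g.asFiber u)
  have hdom' : ∀ ξ : (U : Scheme.{u}), (∀ z, z ⤳ ξ → z = ξ) → g ξ = genericPoint Y := by
    intro ξ hξ
    obtain ⟨W, hW, -, hWc⟩ := hdom _ (GrothLib.Equidim6.closure_mem_components hξ)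
    rw [irreducibleComponents_eq_singleton, Set.mem_singleton_iff] at hW
    subst hW
    have h1 : closure ({g ξ} : Set Y) = Set.univ := by
      refine Set.eq_univ_of_univ_subset ?_
      rw [← hWc]
      refine closure_minimal ?_ isClosed_closure
      exact (image_closure_subset_closure_image g.continuous).trans (by rw [Set.image_singleton])
    exact (show IsGenericPoint (g ξ) Set.univ from h1).eq (genericPoint_spec Y)
  have hfib' : ∀ z : (U : Scheme.{u}), (∀ z', g z' = g z → z' ⤳ z → z' = z) → Dual3.resTrdeg g z = e := by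
    intro z hz
    obtain ⟨n, hn, hn'⟩ := GrothLib.Equidim6.fibreDimAt_eq_resTrdeg g z hz
    rw [hn, show n = e by exact_mod_cast hn'.symm.trans (hfd z)]
  obtain ⟨T, i, hi, hirr, hred, ⟨t, ht⟩, h1, h2, h3, h4⟩ := exists_quasiSection_core g e hdom' hfib'
    ⟨x, hxU⟩ (fun u hu hs => Subtype.ext (hcl u.1 hu (hs.map U.ι.continuous)))
  haveI := hi
  refine ⟨T, i ≫ U.ι, inferInstance, hirr, hred, ⟨t, ?_⟩, ?_, ?_, ?_, ?_⟩
  · rw [Scheme.Hom.comp_apply, ht]
    rfl
  all_goals rw [Category.assoc]; assumption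

theorem exists_quasiSection_component [IrreducibleSpace Y] [IsLocallyNoetherian Y]
    (hY : ∀ y : Y, IsRegularLocalRing (Y.presheaf.stalk y) ∧ ringKrullDim (Y.presheaf.stalk y) ≤ 1)
    (f : X ⟶ Y) [LocallyOfFiniteType f] (x : X) (hcl : ∀ x' : X, f x' = f x → x ⤳ x' → x' = x)
    (S : Set X) (hS : IsClosed S) (hSirr : IsIrreducible S) (hxS : x ∈ S) (hdense : Dense (f '' S)) :
    HasQSec f x S := by
  haveI : ∀ y : Y, _root_.IsReduced (Y.presheaf.stalk y) := fun y =>
    haveI := (hY y).1
    haveI := GrothLib.CMFree.isDomain_of_isRegularLocalRing (Y.presheaf.stalk y)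
    inferInstance
  haveI : IsReduced Y := isReduced_of_isReduced_stalk Y
  haveI : IsIntegral Y := isIntegral_of_irreducibleSpace_of_isReduced Y
  let C : Closeds X := ⟨S, hS⟩
  let ι := (Scheme.IdealSheafData.vanishingIdeal C).subschemeι
  have hrange : Set.range ι = S := GrothLib.RedSub.range_subschemeι_vanishingIdeal C
  haveI : IrreducibleSpace (Scheme.IdealSheafData.vanishingIdeal C).subscheme :=
    (GrothLib.GeomComp6.isIrreducible_range_iff ι ι.isEmbedding).mp (hrange.symm ▸ hSirr)
  haveI : IsReduced (Scheme.IdealSheafData.vanishingIdeal C).subscheme :=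
    GrothLib.RedSub.isReduced_subscheme_vanishingIdeal C
  haveI : IsIntegral (Scheme.IdealSheafData.vanishingIdeal C).subscheme :=
    isIntegral_of_irreducibleSpace_of_isReduced _
  let g := ι ≫ f
  have hgen : g (genericPoint _) = genericPoint Y := by
    have h1 : closure ({g (genericPoint _)} : Set Y) = Set.univ := by
      refine Set.eq_univ_of_univ_subset ?_
      rw [← hdense.closure_eq]
      refine closure_minimal ?_ isClosed_closure
      rw [← hrange, ← Set.range_comp]
      rintro _ ⟨w, rfl⟩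
      exact ((genericPoint_specializes w).map g.continuous).mem_closure
    exact (show IsGenericPoint (g (genericPoint _)) Set.univ from h1).eq (genericPoint_spec Y)
  haveI : QuasiCompact ((Scheme.IdealSheafData.vanishingIdeal C).subscheme.fromSpecResidueField (genericPoint _)) :=
    GrothLib.FlatClosure.quasiCompact_fromSpecResidueField _
  haveI : Flat g := GrothLib.FlatClosure.flat_of_dominant hY g
    ((Scheme.IdealSheafData.vanishingIdeal C).subscheme.fromSpecResidueField (genericPoint _)) fun z => by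
      rw [Scheme.fromSpecResidueField_apply, hgen]
  obtain ⟨w, hw⟩ := hrange.ge hxS
  obtain ⟨W, -, w', hw', he⟩ := GrothLib.Equidim6.conditionT_of_universallyOpen g w
  let ι' := (Scheme.IdealSheafData.vanishingIdeal W).subschemeι
  have hxw : ι (ι' w') = x := by rw [show ι' w' = w from hw']; exact hw
  obtain ⟨T, i, hi, hirr, hred, ⟨t, ht⟩, h1, h2, h3, h4⟩ :=
    exists_quasiSection_of_isEquidimAt (ι' ≫ g) w' he fun v hv hs => by
      apply ι'.isEmbedding.injective
      apply ι.isEmbedding.injective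
      rw [hxw]
      refine hcl _ ?_ (hxw ▸ (hs.map ι'.continuous).map ι.continuous)
      simp only [g, Scheme.Hom.comp_apply] at hv
      rw [hv, hxw]
  haveI := hi
  refine ⟨T, i ≫ ι' ≫ ι, inferInstance, hirr, hred, ⟨t, ?_⟩, ?_, ?_, ?_, ?_, ?_⟩
  · rw [Scheme.Hom.comp_apply, ht, Scheme.Hom.comp_apply]
    exact hxw
  · rintro _ ⟨v, rfl⟩
    exact hrange.le ⟨ι' (i v), rfl⟩
  all_goals simp only [g, Category.assoc] at *; assumption

theorem quasiSections_iff_dominate [IrreducibleSpace Y] [IsLocallyNoetherian Y]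
    (hY : ∀ y : Y, IsRegularLocalRing (Y.presheaf.stalk y) ∧ ringKrullDim (Y.presheaf.stalk y) ≤ 1)
    (f : X ⟶ Y) [LocallyOfFiniteType f] (y : Y) :
    (∀ Z ∈ irreducibleComponents (X : Type u), (Z ∩ f.base ⁻¹' {y}).Nonempty → Dense (f.base '' Z)) ↔
      ∀ x : X, f.base x = y → (∀ x' : X, f.base x' = y → x ⤳ x' → x' = x) →
        ∀ Xi ∈ irreducibleComponents (X : Type u), x ∈ Xi → HasQSec f x Xi := by
  constructor
  · intro h x hxy hcl Xi hXi hxXi
    subst hxy
    exact exists_quasiSection_component hY f x hcl Xi (isClosed_of_mem_irreducibleComponents _ hXi) hXi.1 hxXi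
      (h Xi hXi ⟨x, hxXi, rfl⟩)
  · intro h Z hZ hne
    haveI : LocallyOfFiniteType (f.fiberToSpecResidueField y) := MorphismProperty.pullback_snd f _ inferInstance
    haveI : JacobsonSpace (f.fiber y) := LocallyOfFiniteType.jacobsonSpace (f.fiberToSpecResidueField y)
    have hne' : (f.fiberι y ⁻¹' Z).Nonempty := by
      obtain ⟨x, hxZ, hxy⟩ := hne
      obtain ⟨c, rfl⟩ := (f.range_fiberι y).ge hxy
      exact ⟨c, hxZ⟩
    obtain ⟨c, hcZ, hc⟩ := nonempty_inter_closedPoints hne'
      ((isClosed_of_mem_irreducibleComponents _ hZ).preimage (f.fiberι y).continuous).isLocallyClosed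
    have hc' : IsClosed ({c} : Set (f.fiber y)) := hc
    obtain ⟨T, i, hi, hirr, hred, hxr, hsub, -, -, -, h4⟩ := h (f.fiberι y c)
      ((f.range_fiberι y).le ⟨c, rfl⟩) (fun x' hx' hs => by
        obtain ⟨c', rfl⟩ := (f.range_fiberι y).ge hx'
        have h5 : c ⤳ c' := (f.fiberι y).isEmbedding.isInducing.specializes_iff.mp hs
        have h6 : c' ∈ closure ({c} : Set (f.fiber y)) := h5.mem_closure
        rw [hc'.closure_eq, Set.mem_singleton_iff] at h6
        rw [h6]) Z hZ hcZ
    refine h4.denseRange.mono ?_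
    rintro _ ⟨t, rfl⟩
    exact ⟨i t, hsub ⟨t, rfl⟩, rfl⟩

end GrothLib.QSec28
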