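import Groth.Agent.Lib.QSec28.Ring
import Groth.Agent.Lib.QuasiSec.Main
import Groth.Agent.Lib.Equidim6.CondTOpen
import Groth.Agent.Lib.Altitude.Scheme
import Groth.Prelude.Def_Dual3
import Mathlib.AlgebraicGeometry.ZariskisMainTheorem
import Mathlib.RingTheory.Ideal.MinimalPrime.Basic

/-!
Quasi-sections through closed points of fibres of equidimensional morphisms (EGA IV 14.5.3).
-/

universe u

open CategoryTheory CategoryTheory.Limits AlgebraicGeometry TopologicalSpace Topology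
open TensorProduct MvPolynomial

noncomputable section

namespace GrothLib.QSec28

variable {X Y : Scheme.{u}}

/-- The transcendence degree of a residue extension, on affine charts. -/
theorem trdeg_quotient_eq_resTrdeg (f : X ⟶ Y) {V : Y.Opens} {U : X.Opens} (hV : IsAffineOpen V)
    (hU : IsAffineOpen U) (e : U ≤ f ⁻¹ᵁ V) (x : X) (hx : x ∈ U)
    [Algebra Γ(Y, V) Γ(X, U)] (halg : algebraMap Γ(Y, V) Γ(X, U) = (f.appLE V U e).hom)
    (p : Ideal Γ(Y, V)) [p.IsPrime] (P : Ideal Γ(X, U)) [P.IsPrime] [P.LiesOver p]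
    (hp : p = (hV.primeIdealOf ⟨f x, e hx⟩).asIdeal) (hP : P = (hU.primeIdealOf ⟨x, hx⟩).asIdeal) :
    Algebra.trdeg (Γ(Y, V) ⧸ p) (Γ(X, U) ⧸ P) = Dual3.resTrdeg f x := by
  open GrothLib.Altitude in
  refine trdeg_congr_hom (A := Γ(Y, V) ⧸ p) (B := Γ(X, U) ⧸ P) (f.residueFieldMap x).hom
    (Ideal.Quotient.lift p (evalAt V (f x) (e hx)) (fun r hr => by
      rwa [← RingHom.mem_ker, ker_evalAt hV, ← hp]))
    (Ideal.Quotient.lift P (evalAt U x hx) (fun r hr => by
      rwa [← RingHom.mem_ker, ker_evalAt hU, ← hP]))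
    ?_ (RingHom.lift_injective_of_ker_le_ideal _ _ ((ker_evalAt hV _ _).trans hp.symm).le)
    (RingHom.lift_injective_of_ker_le_ideal _ _ ((ker_evalAt hU _ _).trans hP.symm).le) ?_ ?_
  · refine Ideal.Quotient.ringHom_ext (RingHom.ext fun r => ?_)
    refine (RingHom.congr_fun (evalAt_appLE f e x hx) r).trans ?_
    rw [RingHom.comp_apply, ← halg]
    rfl
  · intro z
    obtain ⟨r, c, h1, h2⟩ := evalAt_fractions hV (f x) (e hx) z
    exact ⟨Ideal.Quotient.mk p r, Ideal.Quotient.mk p c, h1, h2⟩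
  · intro z
    obtain ⟨r, c, h1, h2⟩ := evalAt_fractions hU x hx z
    exact ⟨Ideal.Quotient.mk P r, Ideal.Quotient.mk P c, h1, h2⟩

/-- A finite dimensional ring has a minimal prime of full dimension. -/
theorem exists_minimalPrime_dim {C : Type u} [CommRing C] {n : ℕ} (hn : ringKrullDim C = n) :
    ∃ Q : Ideal C, ∃ _ : Q.IsPrime, Q ∈ minimalPrimes C ∧ ringKrullDim C ≤ ringKrullDim (C ⧸ Q) := by
  obtain ⟨l, hl⟩ := Order.le_krullDim_iff.mp hn.ge
  obtain ⟨Q, hQ, hQl⟩ := Ideal.exists_minimalPrimes_le (I := (⊥ : Ideal C)) (J := l.head.asIdeal) bot_le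
  haveI := hQ.1.1
  refine ⟨Q, hQ.1.1, hQ, ?_⟩
  have hle : ∀ i, Q ≤ (l i).asIdeal := fun i =>
    hQl.trans (show l.head ≤ l i from l.monotone (Fin.zero_le _))
  let l' : LTSeries (PrimeSpectrum (C ⧸ Q)) := LTSeries.mk l.length
    (fun i => ⟨(l i).asIdeal.map (Ideal.Quotient.mk Q),
      Ideal.map_isPrime_of_surjective Ideal.Quotient.mk_surjective (by rw [Ideal.mk_ker]; exact hle i)⟩)
    fun i j hij => by
      refine lt_of_le_not_ge (Ideal.map_mono (l.monotone hij.le : l i ≤ l j)) fun h => ?_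
      have h' : (l j).asIdeal ≤ (l i).asIdeal := fun c hc =>
        (Ideal.mem_quotient_iff_mem (hle i)).mp (h (Ideal.mem_map_of_mem _ hc))
      exact (not_le_of_gt (l.strictMono hij)) h'
  rw [hn, ← hl]
  exact Order.LTSeries.length_le_krullDim l'

theorem aeval_one_tmul {R B : Type u} [CommRing R] [CommRing B] [Algebra R B] (κ : Type u) [CommRing κ]
    [Algebra R κ] {d : ℕ} (b : Fin d → B) (P : MvPolynomial (Fin d) R) :
    (1 : κ) ⊗ₜ[R] aeval b P =
      aeval (fun i => (1 : κ) ⊗ₜ[R] b i) (MvPolynomial.map (algebraMap R κ) P) := by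
  rw [MvPolynomial.aeval_map_algebraMap]
  exact comp_aeval_apply b (Algebra.TensorProduct.includeRight : B →ₐ[R] κ ⊗[R] B) P

/-- The prime cut out below a point on the component `P₀`. -/
theorem exists_prime_cut {R B : Type u} [CommRing R] [CommRing B] [Algebra R B] [Algebra.FiniteType R B]
    {d : ℕ} (b : Fin d → B) (qx P₀ : Ideal B) [qx.IsPrime] [P₀.IsPrime] (hP₀x : P₀ ≤ qx)
    (p₀ : Ideal R) [p₀.IsPrime] [P₀.LiesOver p₀] (hbq : ∀ i, b i ∈ qx)
    (hqf : letI : Algebra (MvPolynomial (Fin d) R) B := (aeval b).toRingHom.toAlgebra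
      Algebra.QuasiFiniteAt (MvPolynomial (Fin d) R) qx)
    (hqfY : ∀ y : PrimeSpectrum (B ⧸ Ideal.span (Set.range b)),
      y.asIdeal.comap (Ideal.Quotient.mk _) = qx → Algebra.QuasiFiniteAt R y.asIdeal)
    (htr : (d : Cardinal.{u}) ≤ Algebra.trdeg (R ⧸ p₀) (B ⧸ P₀)) :
    ∃ qB : PrimeSpectrum B, ∃ y : PrimeSpectrum (B ⧸ qB.asIdeal), qB.asIdeal.comap (algebraMap R B) = p₀ ∧
      y.asIdeal.comap (Ideal.Quotient.mk qB.asIdeal) = qx ∧ Algebra.QuasiFiniteAt R y.asIdeal := by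
  let A := R ⧸ p₀
  let B₀ := B ⧸ P₀
  haveI : FaithfulSMul A B₀ := (faithfulSMul_iff_algebraMap_injective _ _).mpr <| by
    refine (injective_iff_map_eq_zero _).mpr fun a ha => ?_
    obtain ⟨r, rfl⟩ := Ideal.Quotient.mk_surjective a
    rw [Ideal.Quotient.eq_zero_iff_mem, Ideal.mem_of_liesOver P₀ p₀ r]
    exact Ideal.Quotient.eq_zero_iff_mem.mp ha
  haveI : Algebra.FiniteType A B₀ := Algebra.FiniteType.of_restrictScalars_finiteType R A B₀
  let mk₀ := Ideal.Quotient.mk P₀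
  let b₀ : Fin d → B₀ := fun i => mk₀ (b i)
  let y₀ : Ideal B₀ := qx.map mk₀
  haveI : y₀.IsPrime := Ideal.map_isPrime_of_surjective Ideal.Quotient.mk_surjective (by rwa [Ideal.mk_ker])
  have hqf₀ : letI : Algebra (MvPolynomial (Fin d) A) B₀ := (aeval b₀).toRingHom.toAlgebra
      Algebra.QuasiFiniteAt (MvPolynomial (Fin d) A) y₀ := by
    letI : Algebra (MvPolynomial (Fin d) R) B := (aeval b).toRingHom.toAlgebra
    letI iA : Algebra (MvPolynomial (Fin d) A) B₀ := (aeval b₀).toRingHom.toAlgebra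
    letI iR : Algebra (MvPolynomial (Fin d) R) B₀ := (mk₀.comp (aeval b).toRingHom).toAlgebra
    letI iRA : Algebra (MvPolynomial (Fin d) R) (MvPolynomial (Fin d) A) :=
      (MvPolynomial.map (algebraMap R A)).toAlgebra
    have hst : ∀ P : MvPolynomial (Fin d) R,
        mk₀ (aeval b P) = aeval b₀ (MvPolynomial.map (algebraMap R A) P) := fun P => by
      rw [MvPolynomial.aeval_map_algebraMap]
      exact comp_aeval_apply b (Ideal.Quotient.mkₐ R P₀) P
    haveI := hqf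
    let φ : B →ₐ[MvPolynomial (Fin d) R] B₀ := { mk₀ with commutes' := fun _ => rfl }
    haveI : Algebra.QuasiFiniteAt (MvPolynomial (Fin d) R) y₀ :=
      Algebra.QuasiFiniteAt.of_surjectiveOnStalks qx φ
        (RingHom.surjectiveOnStalks_of_surjective Ideal.Quotient.mk_surjective) y₀
        (Ideal.ext fun w => (Ideal.mem_quotient_iff_mem hP₀x).symm)
    let L := Localization.AtPrime y₀
    haveI htower : @IsScalarTower (MvPolynomial (Fin d) R) (MvPolynomial (Fin d) A) L iRA.toSMul _ _ := by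
      refine @IsScalarTower.of_algebraMap_eq _ _ _ _ _ _ iRA _ _ fun P => ?_
      rw [IsScalarTower.algebraMap_apply (MvPolynomial (Fin d) R) B₀ L,
        IsScalarTower.algebraMap_apply (MvPolynomial (Fin d) A) B₀ L]
      exact congrArg (algebraMap B₀ L) (hst P)
    exact @Algebra.QuasiFinite.of_restrictScalars (MvPolynomial (Fin d) R) (MvPolynomial (Fin d) A) L
      _ _ _ iRA _ _ htower _
  obtain ⟨q₀, hq₀, hq₀x, hq₀A, hq₀b⟩ :=
    exists_prime_generic b₀ y₀ (fun i => Ideal.mem_map_of_mem _ (hbq i)) hqf₀ htr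
  let qB : Ideal B := q₀.comap mk₀
  haveI : qB.IsPrime := Ideal.comap_isPrime _ _
  have hqBx : qB ≤ qx := fun w hw => (Ideal.mem_quotient_iff_mem hP₀x).mp (hq₀x hw)
  have hqBR : qB.comap (algebraMap R B) = p₀ := by
    ext r
    rw [Ideal.mem_comap, Ideal.mem_comap]
    change Ideal.Quotient.mk p₀ r ∈ q₀.comap (algebraMap A B₀) ↔ _
    rw [hq₀A, Ideal.mem_bot, Ideal.Quotient.eq_zero_iff_mem]
  haveI hyp : (qx.map (Ideal.Quotient.mk qB)).IsPrime :=
    Ideal.map_isPrime_of_surjective Ideal.Quotient.mk_surjective (by rwa [Ideal.mk_ker])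
  refine ⟨⟨qB, inferInstance⟩, ⟨qx.map (Ideal.Quotient.mk qB), hyp⟩, hqBR,
    Ideal.ext fun w => Ideal.mem_quotient_iff_mem hqBx, ?_⟩
  have hbs : Ideal.span (Set.range b) ≤ qx := Ideal.span_le.mpr (by rintro _ ⟨i, rfl⟩; exact hbq i)
  haveI hybp : (qx.map (Ideal.Quotient.mk (Ideal.span (Set.range b)))).IsPrime :=
    Ideal.map_isPrime_of_surjective Ideal.Quotient.mk_surjective (by rwa [Ideal.mk_ker])
  haveI : Algebra.QuasiFiniteAt R (qx.map (Ideal.Quotient.mk (Ideal.span (Set.range b)))) :=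
    hqfY ⟨_, hybp⟩ (Ideal.ext fun w => Ideal.mem_quotient_iff_mem hbs)
  have hsq : Ideal.span (Set.range b) ≤ qB := Ideal.span_le.mpr (by rintro _ ⟨i, rfl⟩; exact hq₀b i)
  refine Algebra.QuasiFiniteAt.of_surjectiveOnStalks (qx.map (Ideal.Quotient.mk (Ideal.span (Set.range b))))
    (Ideal.Quotient.factorₐ R hsq)
    (RingHom.surjectiveOnStalks_of_surjective (Ideal.Quotient.factor_surjective hsq))
    (qx.map (Ideal.Quotient.mk qB)) ?_
  refine Ideal.comap_injective_of_surjective (Ideal.Quotient.mk _) Ideal.Quotient.mk_surjective ?_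
  ext w
  exact (Ideal.mem_quotient_iff_mem hbs).trans (Ideal.mem_quotient_iff_mem hqBx).symm

/-- An affine neighbourhood of a quasi-finite point of an integral subscheme dominating the base. -/
theorem exists_subscheme_of_immersion [IrreducibleSpace Y] [IsLocallyNoetherian Y] (f : X ⟶ Y)
    [LocallyOfFiniteType f] {Z : Scheme.{u}} [IsIntegral Z] (j : Z ⟶ X) [IsImmersion j]
    (y : Z) (hqf : (j ≫ f).QuasiFiniteAt y) (β : Z) (hβy : β ⤳ y) (hβ : f (j β) = genericPoint Y) :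
    ∃ (T : Scheme.{u}) (i : T ⟶ X), IsImmersion i ∧ IrreducibleSpace ↥T ∧ IsReduced T ∧
        j y ∈ Set.range i.base ∧
        LocallyOfFiniteType (i ≫ f) ∧ LocallyQuasiFinite (i ≫ f) ∧ QuasiCompact (i ≫ f) ∧ IsDominant (i ≫ f) := by
  obtain ⟨W, hW, hyW, hWO⟩ := exists_isAffineOpen_mem_and_subset
    (x := y) (U := (j ≫ f).quasiFiniteLocus) hqf
  haveI : IsAffine W.toScheme := hW
  haveI : Nonempty W.toScheme := ⟨⟨y, hyW⟩⟩
  haveI : IsIntegral W.toScheme := isIntegral_of_isOpenImmersion W.ι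
  have hlqf : LocallyQuasiFinite ((W.ι ≫ j) ≫ f) := by
    rw [Category.assoc, ← Scheme.Hom.quasiFiniteLocus_eq_top_iff, Scheme.Hom.quasiFiniteLocus_comp]
    ext w
    simp only [TopologicalSpace.Opens.coe_top, Set.mem_univ, iff_true]
    exact hWO w.2
  refine ⟨W.toScheme, W.ι ≫ j, inferInstance, inferInstance, inferInstance, ⟨⟨y, hyW⟩, rfl⟩,
    inferInstance, hlqf, inferInstance, ?_⟩
  refine ⟨dense_iff_closure_eq.mpr (Set.eq_univ_of_univ_subset ?_)⟩
  rw [← genericPoint_closure (α := Y)]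
  refine closure_mono (Set.singleton_subset_iff.mpr ⟨⟨β, hβy.mem_open W.2 hyW⟩, ?_⟩)
  exact hβ

/-- The subscheme cut out by a prime of a chart, quasi-finite near a point. -/
theorem exists_subscheme [IrreducibleSpace Y] [IsLocallyNoetherian Y] (f : X ⟶ Y)
    [LocallyOfFiniteType f] {R B : Type u} [CommRing R] [CommRing B] [Algebra R B] [Algebra.FiniteType R B]
    (u : Spec (CommRingCat.of B) ⟶ X) [IsOpenImmersion u] (v : Spec (CommRingCat.of R) ⟶ Y) [IsOpenImmersion v]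
    (sq : u ≫ f = Spec.map (CommRingCat.ofHom (algebraMap R B)) ≫ v)
    (qx qB : PrimeSpectrum B) (hη : f (u qB) = genericPoint Y)
    (y : PrimeSpectrum (B ⧸ qB.asIdeal)) (hy : y.asIdeal.comap (Ideal.Quotient.mk qB.asIdeal) = qx.asIdeal)
    [Algebra.QuasiFiniteAt R y.asIdeal] :
    ∃ (T : Scheme.{u}) (i : T ⟶ X), IsImmersion i ∧ IrreducibleSpace ↥T ∧ IsReduced T ∧
        u qx ∈ Set.range i.base ∧
        LocallyOfFiniteType (i ≫ f) ∧ LocallyQuasiFinite (i ≫ f) ∧ QuasiCompact (i ≫ f) ∧ IsDominant (i ≫ f) := by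
  let q : Spec (CommRingCat.of (B ⧸ qB.asIdeal)) ⟶ Spec (CommRingCat.of B) :=
    Spec.map (CommRingCat.ofHom (Ideal.Quotient.mk qB.asIdeal))
  haveI : IsClosedImmersion q := IsClosedImmersion.spec_of_surjective _ Ideal.Quotient.mk_surjective
  have hjf : (q ≫ u) ≫ f = Spec.map (CommRingCat.ofHom (algebraMap R (B ⧸ qB.asIdeal))) ≫ v := by
    rw [Category.assoc, sq, ← Category.assoc, ← Spec.map_comp]
    rfl
  have hqfy : ((q ≫ u) ≫ f).QuasiFiniteAt y := by
    rw [hjf]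
    exact GrothLib.QuasiSec.quasiFiniteAt_of_algebra v y
  let β : PrimeSpectrum (B ⧸ qB.asIdeal) := ⟨⊥, Ideal.isPrime_bot⟩
  have hqy : q y = qx := PrimeSpectrum.ext hy
  have hqβ : q β = qB := PrimeSpectrum.ext ((RingHom.ker_eq_comap_bot _).symm.trans Ideal.mk_ker)
  have h := exists_subscheme_of_immersion f (q ≫ u) y hqfy β
    ((PrimeSpectrum.le_iff_specializes β y).mp (bot_le : (⊥ : Ideal _) ≤ y.asIdeal))
    (by rw [Scheme.Hom.comp_apply, hqβ]; exact hη)
  rwa [Scheme.Hom.comp_apply, hqy] at h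

/-- **Quasi-sections** (EGA IV 14.5.3), fibres pure of dimension `e`. -/
theorem exists_quasiSection_core [IrreducibleSpace Y] [IsLocallyNoetherian Y] (f : X ⟶ Y)
    [LocallyOfFiniteType f] (e : ℕ)
    (hdom : ∀ ξ : X, (∀ z : X, z ⤳ ξ → z = ξ) → f ξ = genericPoint Y)
    (hfib : ∀ z : X, (∀ z', f z' = f z → z' ⤳ z → z' = z) → Dual3.resTrdeg f z = e)
    (x : X) (hcl : ∀ x' : X, f x' = f x → x ⤳ x' → x' = x) :
    ∃ (T : Scheme.{u}) (i : T ⟶ X), IsImmersion i ∧ IrreducibleSpace ↥T ∧ IsReduced T ∧ x ∈ Set.range i.base ∧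
        LocallyOfFiniteType (i ≫ f) ∧ LocallyQuasiFinite (i ≫ f) ∧ QuasiCompact (i ≫ f) ∧ IsDominant (i ≫ f) := by
  obtain ⟨V, hV, hxV, -⟩ := exists_isAffineOpen_mem_and_subset (x := f x) (U := ⊤) trivial
  obtain ⟨U, hU, hxU, hUV⟩ := exists_isAffineOpen_mem_and_subset (x := x) (U := f ⁻¹ᵁ V) hxV
  let R : Type u := Γ(Y, V)
  let B : Type u := Γ(X, U)
  let _ : Algebra R B := (f.appLE V U hUV).hom.toAlgebra
  haveI : Algebra.FiniteType R B := f.finiteType_appLE hV hU hUV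
  have sq : hU.fromSpec ≫ f = Spec.map (CommRingCat.ofHom (algebraMap R B)) ≫ hV.fromSpec :=
    (hV.SpecMap_appLE_fromSpec f hU hUV).symm
  have hfj : ∀ q : PrimeSpectrum B, f (hU.fromSpec q) = hV.fromSpec (PrimeSpectrum.comap (algebraMap R B) q) :=
    fun q => by rw [← Scheme.Hom.comp_apply, sq]; rfl
  have hmem : ∀ q : PrimeSpectrum B, hU.fromSpec q ∈ U := fun q => hU.range_fromSpec.le ⟨q, rfl⟩
  have hprime : ∀ q : PrimeSpectrum B, hU.primeIdealOf ⟨hU.fromSpec q, hmem q⟩ = q := fun q =>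
    hU.fromSpec.isOpenEmbedding.injective (hU.fromSpec_primeIdealOf _)
  have hle : ∀ q q' : PrimeSpectrum B, hU.fromSpec q ⤳ hU.fromSpec q' ↔ q ≤ q' := fun q q' =>
    hU.fromSpec.isEmbedding.isInducing.specializes_iff.trans (PrimeSpectrum.le_iff_specializes q q').symm
  obtain ⟨qx, hqx⟩ : ∃ qx : PrimeSpectrum B, hU.fromSpec qx = x := hU.range_fromSpec.ge hxU
  let pp : PrimeSpectrum R := PrimeSpectrum.comap (algebraMap R B) qx
  let p := pp.asIdeal
  have hfx : f x = hV.fromSpec pp := by rw [← hqx]; exact hfj qx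
  let C := p.Fiber B
  let ε := PrimeSpectrum.preimageHomeomorphFiber R B pp
  let π : PrimeSpectrum C → X := fun c => hU.fromSpec (ε.symm c).1
  have hπf : ∀ c, f (π c) = f x := fun c => by
    rw [hfx, show f (π c) = hV.fromSpec (PrimeSpectrum.comap (algebraMap R B) (ε.symm c).1) from hfj _]
    exact congrArg _ (ε.symm c).2
  have hπs : ∀ c c', π c ⤳ π c' ↔ c ⤳ c' := fun c c' =>
    (hU.fromSpec.isEmbedding.comp (Topology.IsEmbedding.subtypeVal.comp ε.symm.isEmbedding)).isInducing.specializes_iff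
  have hπi : Function.Injective π :=
    hU.fromSpec.isOpenEmbedding.injective.comp (Subtype.val_injective.comp ε.symm.injective)
  let wx : PrimeSpectrum C := ε ⟨qx, rfl⟩
  have hwx : π wx = x := by
    change hU.fromSpec (ε.symm (ε ⟨qx, rfl⟩)).1 = x
    rw [Homeomorph.symm_apply_apply]
    exact hqx
  haveI : wx.asIdeal.IsMaximal := by
    obtain ⟨m, hm, hxm⟩ := wx.asIdeal.exists_le_maximal wx.isPrime.ne_top
    let cm : PrimeSpectrum C := ⟨m, hm.isPrime⟩
    have h1 : x ⤳ π cm := hwx ▸ (hπs wx cm).mpr ((PrimeSpectrum.le_iff_specializes wx cm).mp hxm)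
    have h2 := hπi ((hcl _ (hπf cm) h1).trans hwx.symm)
    rw [← h2]
    exact hm
  haveI : Algebra.FiniteType p.ResidueField C := inferInstance
  obtain ⟨s, g, hginj, hgfin, -⟩ := GrothLib.SpecDense.exists_normalization_at (k := p.ResidueField) wx.asIdeal
  obtain ⟨Qz, _, hQzmin, hdim⟩ := exists_minimalPrime_dim (C := C) (n := s) (by
    algebraize [g.toRingHom]
    haveI : Module.Finite (MvPolynomial (Fin s) p.ResidueField) C := hgfin
    rw [GrothLib.Dim.ringKrullDim_eq_of_isIntegral (R := MvPolynomial (Fin s) p.ResidueField) (S := C) hginj,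
      MvPolynomial.ringKrullDim_of_isNoetherianRing, ringKrullDim_eq_zero_of_field, zero_add, Nat.card_fin])
  obtain ⟨d, b, hbx, hgen, hqf, hqfY⟩ := GrothLib.QuasiSec.exists_cut p wx.asIdeal Qz hdim
  -- `d` is at most the fibre dimension
  let cz : PrimeSpectrum C := ⟨Qz, inferInstance⟩
  let qz : PrimeSpectrum B := (ε.symm cz).1
  have hzmax : ∀ z', f z' = f (π cz) → z' ⤳ π cz → z' = π cz := by
    intro z' hz' hs
    obtain ⟨q', rfl⟩ : z' ∈ Set.range hU.fromSpec := hU.range_fromSpec.ge (hs.mem_open U.2 (hmem _))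
    have hq' : PrimeSpectrum.comap (algebraMap R B) q' = pp := hV.fromSpec.isOpenEmbedding.injective <| by
      rw [← hfj, hz', hπf, hfx]
    have h1 : hU.fromSpec q' = π (ε ⟨q', hq'⟩) := by
      change _ = hU.fromSpec (ε.symm (ε ⟨q', hq'⟩)).1
      rw [Homeomorph.symm_apply_apply]
    rw [h1] at hs ⊢
    refine congrArg π (PrimeSpectrum.ext ?_)
    have h2 : (ε ⟨q', hq'⟩).asIdeal ≤ Qz :=
      (PrimeSpectrum.le_iff_specializes _ _).mpr ((hπs _ _).mp hs)
    exact le_antisymm h2 (hQzmin.2 ⟨(ε ⟨q', hq'⟩).isPrime, bot_le⟩ h2)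
  haveI hzl : qz.asIdeal.LiesOver p := ⟨(congrArg PrimeSpectrum.asIdeal (ε.symm cz).2).symm⟩
  have hzd : (d : Cardinal.{u}) ≤ Algebra.trdeg (R ⧸ p) (B ⧸ qz.asIdeal) := by
    have hind : AlgebraicIndependent (R ⧸ p) (fun i => Ideal.Quotient.mk qz.asIdeal (b i)) := by
      refine (injective_iff_map_eq_zero _).mpr fun P hP => ?_
      obtain ⟨P', rfl⟩ := MvPolynomial.map_surjective (Ideal.Quotient.mk p) Ideal.Quotient.mk_surjective P
      have h1 : Ideal.Quotient.mk qz.asIdeal (aeval b P') = 0 := by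
        rw [← hP, show (Ideal.Quotient.mk p : R →+* R ⧸ p) = algebraMap R (R ⧸ p) from rfl,
          MvPolynomial.aeval_map_algebraMap]
        exact comp_aeval_apply b (Ideal.Quotient.mkₐ R qz.asIdeal) P'
      have h1' : aeval b P' ∈ qz.asIdeal := Ideal.Quotient.eq_zero_iff_mem.mp h1
      have h2 : (1 : p.ResidueField) ⊗ₜ[R] aeval b P' ∈ Qz := h1'
      rw [aeval_one_tmul] at h2
      have h3 := hgen _ h2
      ext m
      rw [MvPolynomial.coeff_map, MvPolynomial.coeff_zero, Ideal.Quotient.eq_zero_iff_mem,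
        ← Ideal.algebraMap_residueField_eq_zero, ← MvPolynomial.coeff_map, h3, MvPolynomial.coeff_zero]
    simpa using hind.lift_cardinalMk_le_trdeg
  have hde : (d : Cardinal.{u}) ≤ (e : Cardinal.{u}) := by
    refine hzd.trans (le_of_eq ?_)
    have h0 : qz.asIdeal = (hU.primeIdealOf ⟨hU.fromSpec qz, hmem qz⟩).asIdeal :=
      congrArg PrimeSpectrum.asIdeal (hprime qz).symm
    have h1 : p = (hV.primeIdealOf ⟨f (hU.fromSpec qz), hUV (hmem qz)⟩).asIdeal := by
      rw [← IsAffineOpen.comap_primeIdealOf_appLE V hV U hU hUV (hmem qz)]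
      exact hzl.over.trans (congrArg (Ideal.comap (algebraMap R B)) h0)
    rw [← hfib (π cz) hzmax]
    exact trdeg_quotient_eq_resTrdeg f hV hU hUV (hU.fromSpec qz) (hmem qz) rfl p qz.asIdeal h1 h0
  -- the component
  obtain ⟨P₀, hP₀min, hP₀x⟩ := Ideal.exists_minimalPrimes_le (I := (⊥ : Ideal B)) (J := qx.asIdeal) bot_le
  haveI hP₀p : P₀.IsPrime := hP₀min.1.1
  let p₀ : Ideal R := P₀.comap (algebraMap R B)
  haveI : P₀.LiesOver p₀ := ⟨rfl⟩
  let ξ : X := hU.fromSpec (⟨P₀, hP₀p⟩ : PrimeSpectrum B)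
  have hξ : ∀ z, z ⤳ ξ → z = ξ := by
    intro z hz
    obtain ⟨q', rfl⟩ : z ∈ Set.range hU.fromSpec := hU.range_fromSpec.ge (hz.mem_open U.2 (hmem _))
    have h2 : q'.asIdeal ≤ P₀ := (hle q' _).mp hz
    exact congrArg hU.fromSpec (PrimeSpectrum.ext (le_antisymm h2 (hP₀min.2 ⟨q'.isPrime, bot_le⟩ h2)))
  have hξη : f ξ = genericPoint Y := hdom ξ hξ
  have hξd : (d : Cardinal.{u}) ≤ Algebra.trdeg (R ⧸ p₀) (B ⧸ P₀) := by
    refine hde.trans (le_of_eq ?_)
    have h0 : P₀ = (hU.primeIdealOf ⟨ξ, hmem _⟩).asIdeal :=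
      congrArg PrimeSpectrum.asIdeal (hprime ⟨P₀, hP₀p⟩).symm
    have h1 : p₀ = (hV.primeIdealOf ⟨f ξ, hUV (hmem _)⟩).asIdeal := by
      rw [← IsAffineOpen.comap_primeIdealOf_appLE V hV U hU hUV (hmem _)]
      exact congrArg (Ideal.comap (algebraMap R B)) h0
    rw [← hfib ξ fun z' _ hz => hξ z' hz]
    exact (trdeg_quotient_eq_resTrdeg f hV hU hUV ξ (hmem _) rfl p₀ P₀ h1 h0).symm
  have hwxB : wx.asIdeal.comap Algebra.TensorProduct.includeRight.toRingHom = qx.asIdeal :=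
    congrArg (fun w => PrimeSpectrum.asIdeal (Subtype.val w)) (ε.symm_apply_apply ⟨qx, rfl⟩)
  obtain ⟨qB, y, hqBR, hy, hqfy⟩ := exists_prime_cut b qx.asIdeal P₀ hP₀x p₀ (fun i => hwxB ▸ hbx i)
    (by
      have := hqf
      simp only [hwxB] at this
      exact this)
    (fun y hy => hqfY y (hy.trans hwxB.symm)) hξd
  subst hqx
  refine exists_subscheme f hU.fromSpec hV.fromSpec sq qx qB ?_ y hy
  rw [← hξη, hfj, hfj]
  exact congrArg _ (PrimeSpectrum.ext hqBR)

end GrothLib.QSec28
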