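import Groth.Agent.Lib.QuasiSec.GoingDown
import Groth.Agent.Lib.SubtrLim.Multisection
import Mathlib.RingTheory.AlgebraicIndependent.TranscendenceBasis
import Mathlib.RingTheory.AlgebraicIndependent.AlgebraicClosure
import Mathlib.RingTheory.Localization.Integral

/-!
Generic points on the cut by `b` below a quasi-finite point: going down from the normalization.
-/

universe u

open TensorProduct MvPolynomial

noncomputable section

namespace GrothLib.QSec28

variable {A B : Type u} [CommRing A] [IsDomain A] [CommRing B] [IsDomain B] [Algebra A B]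

/-- A quasi-finite map to affine space by `d ≤ trdeg` functions has them algebraically independent. -/
theorem algebraicIndependent_of_quasiFiniteAt [FaithfulSMul A B] {d : ℕ} (b : Fin d → B)
    (q : Ideal B) [q.IsPrime]
    (hqf : letI : Algebra (MvPolynomial (Fin d) A) B := (aeval b).toRingHom.toAlgebra
      Algebra.QuasiFiniteAt (MvPolynomial (Fin d) A) q)
    (htr : (d : Cardinal.{u}) ≤ Algebra.trdeg A B) : AlgebraicIndependent A b := by
  let S := Algebra.adjoin A (Set.range b)
  letI : Algebra (MvPolynomial (Fin d) A) B := (aeval b).toRingHom.toAlgebra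
  letI : Algebra (MvPolynomial (Fin d) A) S :=
    (aeval fun i => (⟨b i, Algebra.subset_adjoin ⟨i, rfl⟩⟩ : S)).toRingHom.toAlgebra
  haveI : IsScalarTower (MvPolynomial (Fin d) A) S B := IsScalarTower.of_algebraMap_eq fun P => by
    simp only [RingHom.algebraMap_toAlgebra, AlgHom.toRingHom_eq_coe, RingHom.coe_coe]
    exact (comp_aeval_apply (fun i => (⟨b i, Algebra.subset_adjoin ⟨i, rfl⟩⟩ : S)) S.val P).symm
  haveI := hqf
  haveI : Algebra.QuasiFiniteAt (MvPolynomial (Fin d) A) (⊥ : Ideal B) :=
    Algebra.QuasiFiniteAt.of_le (bot_le : (⊥ : Ideal B) ≤ q)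
  let L := Localization.AtPrime (⊥ : Ideal B)
  haveI : IsScalarTower (MvPolynomial (Fin d) A) S L := IsScalarTower.of_algebraMap_eq fun P => by
    rw [IsScalarTower.algebraMap_apply (MvPolynomial (Fin d) A) B L, IsScalarTower.algebraMap_apply S B L,
      ← IsScalarTower.algebraMap_apply (MvPolynomial (Fin d) A) S B]
  haveI : Algebra.QuasiFinite S L := Algebra.QuasiFinite.of_restrictScalars (MvPolynomial (Fin d) A) S L
  haveI hfr : IsFractionRing B L := by
    have hM : (⊥ : Ideal B).primeCompl = nonZeroDivisors B := by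
      ext x
      simp [Ideal.primeCompl]
    have key : ∀ M : Submonoid B, M = nonZeroDivisors B → IsLocalization M L →
        IsLocalization (nonZeroDivisors B) L := fun M e h => e ▸ h
    exact key _ hM inferInstance
  letI : Field L := IsFractionRing.toField B
  haveI : FaithfulSMul S L := (faithfulSMul_iff_algebraMap_injective _ _).mpr <| by
    rw [IsScalarTower.algebraMap_eq S B L]
    exact (IsFractionRing.injective B L).comp Subtype.val_injective
  letI : Algebra (FractionRing S) L := FractionRing.liftAlgebra S L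
  haveI : Algebra.QuasiFinite (FractionRing S) L :=
    Algebra.QuasiFinite.of_restrictScalars S (FractionRing S) L
  haveI : Module.Finite (FractionRing S) L := Module.Finite.of_quasiFinite
  haveI : Algebra.IsAlgebraic S B := ⟨fun x => by
    have h : IsAlgebraic (FractionRing S) (algebraMap B L x) :=
      (IsIntegral.of_finite _ _).isAlgebraic
    rw [← IsFractionRing.isAlgebraic_iff S (FractionRing S) L] at h
    exact (isAlgebraic_algebraMap_iff (IsFractionRing.injective B L)).mp h⟩
  obtain ⟨t, ht, hbasis⟩ := exists_isTranscendenceBasis_subset (R := A) (A := B) (Set.range b)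
  have hcard : (d : Cardinal.{u}) ≤ Cardinal.mk t := by rwa [hbasis.cardinalMk_eq_trdeg]
  have htfin : t.Finite := (Set.finite_range b).subset ht
  have h1 : d ≤ t.ncard := by
    rw [← Nat.card_coe_set_eq]
    haveI := htfin.to_subtype
    rw [← Nat.cast_card (α := t)] at hcard
    exact_mod_cast hcard
  have h2 : (Set.range b).ncard ≤ d := by
    rw [← Set.image_univ]
    exact (Set.ncard_image_le Set.finite_univ).trans (by simp)
  have h3 : t = Set.range b := Set.eq_of_subset_of_ncard_le ht (h2.trans h1) (Set.finite_range b)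
  have hinj : Function.Injective b := by
    have h4 : (b '' Set.univ).ncard = (Set.univ : Set (Fin d)).ncard := by
      rw [Set.image_univ]
      refine le_antisymm ?_ ?_
      · simpa using h2
      · rw [← h3]; simpa using h1
    exact Set.injOn_univ.mp (Set.injOn_of_ncard_image_eq h4 Set.finite_univ)
  refine (algebraicIndependent_subtype_range hinj).mp ?_
  rw [← h3]
  exact hbasis.1

/-- Going down from an integrally closed integral extension of the base inside a common field. -/
theorem exists_prime_generic_of_normal [Algebra.FiniteType A B] {d : ℕ} (b : Fin d → B)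
    (Qx : Ideal B) [Qx.IsPrime] (hbx : ∀ i, b i ∈ Qx)
    (hqf : letI : Algebra (MvPolynomial (Fin d) A) B := (aeval b).toRingHom.toAlgebra
      Algebra.QuasiFiniteAt (MvPolynomial (Fin d) A) Qx)
    (hind : AlgebraicIndependent A b)
    (N : Type u) [CommRing N] [IsDomain N] [IsIntegrallyClosed N] [Algebra A N] [Algebra.IsIntegral A N]
    [FaithfulSMul A N]
    (L : Type u) [Field L] [Algebra A L] [Algebra B L] [IsScalarTower A B L] [Algebra N L] [IsScalarTower A N L]
    (hBL : Function.Injective (algebraMap B L)) (hNL : Function.Injective (algebraMap N L)) :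
    ∃ q : Ideal B, q.IsPrime ∧ q ≤ Qx ∧ q.comap (algebraMap A B) = ⊥ ∧ ∀ i, b i ∈ q := by
  let χ : N →ₐ[A] L := IsScalarTower.toAlgHom A N L
  let Ψ : N ⊗[A] B →ₐ[A] L :=
    Algebra.TensorProduct.lift χ (IsScalarTower.toAlgHom A B L) fun _ _ => .all _ _
  let Q₀ : Ideal (N ⊗[A] B) := RingHom.ker Ψ.toRingHom
  haveI : Q₀.IsPrime := RingHom.ker_isPrime _
  let D := (N ⊗[A] B) ⧸ Q₀
  let ι : B →ₐ[A] D := ((Ideal.Quotient.mkₐ N Q₀).restrictScalars A).comp Algebra.TensorProduct.includeRight
  have hι : Function.Injective ι := by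
    refine (injective_iff_map_eq_zero _).mpr fun c hc => ?_
    have h1 : Ψ (1 ⊗ₜ c) = 0 := Ideal.Quotient.eq_zero_iff_mem.mp hc
    simp only [Ψ, Algebra.TensorProduct.lift_tmul, map_one, one_mul, IsScalarTower.coe_toAlgHom'] at h1
    exact (map_eq_zero_iff _ hBL).mp h1
  have hint : ι.toRingHom.IsIntegral := by
    refine RingHom.IsIntegral.trans (Algebra.TensorProduct.includeRight : B →ₐ[A] N ⊗[A] B).toRingHom
      (Ideal.Quotient.mk Q₀) ?_ (RingHom.isIntegral_of_surjective _ Ideal.Quotient.mk_surjective)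
    intro z
    induction z using TensorProduct.induction_on with
    | zero => exact RingHom.isIntegralElem_zero _
    | tmul n c =>
      have h : (n ⊗ₜ[A] c) = (n ⊗ₜ 1) * (1 ⊗ₜ c) := by simp
      rw [h]
      refine RingHom.IsIntegralElem.mul _ ?_ (RingHom.isIntegralElem_map _)
      obtain ⟨P, hP, hP0⟩ := Algebra.IsIntegral.isIntegral (R := A) n
      refine ⟨P.map (algebraMap A B), hP.map _, ?_⟩
      rw [Polynomial.eval₂_map, show (Algebra.TensorProduct.includeRight : B →ₐ[A] N ⊗[A] B).toRingHom.comp
        (algebraMap A B) = algebraMap A (N ⊗[A] B) from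
          RingHom.ext fun r => (Algebra.TensorProduct.includeRight : B →ₐ[A] N ⊗[A] B).commutes r]
      have h2 := congrArg (Algebra.TensorProduct.includeLeft : N →ₐ[A] N ⊗[A] B) hP0
      rw [map_zero, ← Polynomial.aeval_def, ← Polynomial.aeval_algHom_apply] at h2
      exact h2
    | add x y hx hy => exact RingHom.IsIntegralElem.add _ hx hy
  obtain ⟨qD, hqD⟩ : ∃ qD : PrimeSpectrum D, PrimeSpectrum.comap ι.toRingHom qD = ⟨Qx, inferInstance⟩ :=
    hint.comap_surjective hι ⟨Qx, inferInstance⟩
  have hqD' : qD.asIdeal.comap ι.toRingHom = Qx := congrArg PrimeSpectrum.asIdeal hqD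
  let T := MvPolynomial (Fin d) N
  let g : T →ₐ[N] N ⊗[A] B := aeval fun i => (1 : N) ⊗ₜ[A] b i
  have hgX : ∀ i, g (X i) = (1 : N) ⊗ₜ[A] b i := fun i => aeval_X _ i
  have hgC : ∀ v : N, g (C v) = v ⊗ₜ[A] (1 : B) := fun v => aeval_C _ v
  letI : Algebra (MvPolynomial (Fin d) A) B := (aeval b).toRingHom.toAlgebra
  haveI := hqf
  letI : Algebra T (N ⊗[A] B) := g.toRingHom.toAlgebra
  haveI : IsScalarTower N T (N ⊗[A] B) := IsScalarTower.of_algebraMap_eq fun a => (g.commutes a).symm
  haveI : Algebra.FiniteType T (N ⊗[A] B) :=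
    Algebra.FiniteType.of_restrictScalars_finiteType N T (N ⊗[A] B)
  letI : Algebra (MvPolynomial (Fin d) A) T := (MvPolynomial.map (algebraMap A N)).toAlgebra
  letI : Algebra (MvPolynomial (Fin d) A) (N ⊗[A] B) :=
    (g.toRingHom.comp (MvPolynomial.map (algebraMap A N))).toAlgebra
  haveI : IsScalarTower (MvPolynomial (Fin d) A) T (N ⊗[A] B) := IsScalarTower.of_algebraMap_eq fun a => rfl
  let iB : B →ₐ[MvPolynomial (Fin d) A] N ⊗[A] B :=
    { (Algebra.TensorProduct.includeRight : B →ₐ[A] N ⊗[A] B).toRingHom with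
      commutes' := fun a => by
        change (Algebra.TensorProduct.includeRight : B →ₐ[A] N ⊗[A] B) (aeval b a) =
          g (MvPolynomial.map (algebraMap A N) a)
        induction a using MvPolynomial.induction_on with
        | C r =>
          rw [map_C, hgC, aeval_C, AlgHom.commutes]
          exact (IsScalarTower.algebraMap_apply A N (N ⊗[A] B) r)
        | add a c ha hc => simp only [map_add, ha, hc]
        | mul_X a i ha =>
          rw [map_mul, map_mul, map_mul, map_mul, ha, map_X, hgX, aeval_X, Algebra.TensorProduct.includeRight_apply] }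
  let F : T ⊗[MvPolynomial (Fin d) A] B →ₐ[T] N ⊗[A] B :=
    Algebra.TensorProduct.lift (Algebra.ofId _ _) iB fun _ _ => .all _ _
  have hF : Function.Surjective F := fun z => by
    induction z using TensorProduct.induction_on with
    | zero => exact ⟨0, map_zero _⟩
    | tmul v c =>
      refine ⟨C v ⊗ₜ c, ?_⟩
      change g (C v) * ((1 : N) ⊗ₜ[A] c) = v ⊗ₜ c
      rw [hgC]
      simp
    | add a c ha hc =>
      obtain ⟨a, rfl⟩ := ha; obtain ⟨c, rfl⟩ := hc
      exact ⟨a + c, map_add _ _ _⟩
  let qx : Ideal (N ⊗[A] B) := qD.asIdeal.comap (Ideal.Quotient.mk Q₀)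
  haveI : qx.IsPrime := Ideal.comap_isPrime _ _
  haveI : Algebra.QuasiFiniteAt T (qx.comap F.toRingHom) := by
    refine Algebra.QuasiFiniteAt.baseChange Qx (qx.comap F.toRingHom) ?_
    rw [← hqD']
    ext c
    change Ideal.Quotient.mk Q₀ ((1 : N) ⊗ₜ[A] c) ∈ qD.asIdeal ↔ Ideal.Quotient.mk Q₀ (F (1 ⊗ₜ c)) ∈ qD.asIdeal
    simp [F, iB]
  haveI : Algebra.QuasiFiniteAt T qx :=
    Algebra.QuasiFiniteAt.of_surjectiveOnStalks (qx.comap F.toRingHom) F
      (RingHom.surjectiveOnStalks_of_surjective hF) qx rfl
  haveI := qD.isPrime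
  haveI : Algebra.QuasiFiniteAt T qD.asIdeal :=
    Algebra.QuasiFiniteAt.of_surjectiveOnStalks qx (Ideal.Quotient.mkₐ T Q₀)
      (RingHom.surjectiveOnStalks_of_surjective Ideal.Quotient.mk_surjective) qD.asIdeal rfl
  haveI : Algebra.FiniteType T D :=
    Algebra.FiniteType.of_surjective (Ideal.Quotient.mkₐ T Q₀) Ideal.Quotient.mk_surjective
  haveI : IsIntegrallyClosed T := GrothLib.SubtrLim.isIntegrallyClosed_mvPolynomial N d
  have hindN : AlgebraicIndependent N (fun i => algebraMap B L (b i)) := by
    haveI : FaithfulSMul N L := (faithfulSMul_iff_algebraMap_injective _ _).mpr hNL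
    exact (hind.map' (f := IsScalarTower.toAlgHom A B L) hBL).extendScalars_of_isIntegral N
  let ΨN : N ⊗[A] B →ₐ[N] L :=
    Algebra.TensorProduct.lift (Algebra.ofId N L) (IsScalarTower.toAlgHom A B L) fun _ _ => .all _ _
  have hΨ : ∀ z, ΨN z = Ψ z := fun z => rfl
  have hgD : Function.Injective (algebraMap T D) := by
    refine (injective_iff_map_eq_zero _).mpr fun P hP => ?_
    have h1 : Ψ (g P) = 0 := Ideal.Quotient.eq_zero_iff_mem.mp hP
    rw [← hΨ, comp_aeval_apply] at h1
    refine (injective_iff_map_eq_zero _).mp hindN P ?_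
    rw [← h1]
    congr 2
    funext i
    simp [ΨN]
  let P₀ : Ideal T := RingHom.ker (aeval (fun _ => (0 : N)) : T →ₐ[N] N).toRingHom
  haveI : P₀.IsPrime := RingHom.ker_isPrime _
  have hbD : ∀ i, algebraMap T D (X i) = ι (b i) := fun i => by
    change Ideal.Quotient.mk Q₀ (g (X i)) = Ideal.Quotient.mk Q₀ _
    rw [hgX]
    rfl
  have hP₀ : P₀ ≤ qD.asIdeal.comap (algebraMap T D) := fun P hP => by
    have key : ∀ P : T, algebraMap T D P - algebraMap T D (C (aeval (fun _ => (0 : N)) P)) ∈ qD.asIdeal := by
      intro P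
      induction P using MvPolynomial.induction_on with
      | C a =>
        rw [aeval_C, Algebra.algebraMap_self, RingHom.id_apply, sub_self]
        exact qD.asIdeal.zero_mem
      | add a c ha hc =>
        rw [map_add, map_add, map_add, map_add, add_sub_add_comm]
        exact qD.asIdeal.add_mem ha hc
      | mul_X a i ha =>
        rw [map_mul, map_mul, aeval_X, mul_zero, map_zero, map_zero, sub_zero, hbD]
        exact qD.asIdeal.mul_mem_left _ (hqD'.ge (hbx i) :)
    have h := key P
    rw [RingHom.mem_ker] at hP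
    change aeval (fun _ => (0 : N)) P = 0 at hP
    rwa [hP, map_zero, map_zero, sub_zero] at h
  obtain ⟨Q'', hQ''p, hQ''le, hQ''P⟩ := GrothLib.QuasiSec.exists_le_of_quasiFiniteAt hgD qD.asIdeal P₀ hP₀
  refine ⟨Q''.comap ι.toRingHom, Ideal.comap_isPrime _ _, hqD' ▸ Ideal.comap_mono hQ''le, ?_, fun i => ?_⟩
  · rw [eq_bot_iff]
    intro a ha
    rw [Ideal.mem_bot]
    have h1 : C (algebraMap A N a) ∈ P₀ := by
      rw [← hQ''P, Ideal.mem_comap]
      refine Set.mem_of_eq_of_mem (s := (Q'' : Set D)) ?_ ha
      change Ideal.Quotient.mk Q₀ (g (C (algebraMap A N a))) = ι (algebraMap A B a)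
      rw [AlgHom.commutes, ← MvPolynomial.algebraMap_eq, AlgHom.commutes]
      rfl
    rw [RingHom.mem_ker] at h1
    simp at h1
    exact h1
  · have h1 : (X i : T) ∈ P₀ := by rw [RingHom.mem_ker]; simp
    rw [← hQ''P, Ideal.mem_comap, hbD] at h1
    exact h1


/-- **A point of the generic fibre on the cut below a quasi-finite point.** -/
theorem exists_prime_generic [Algebra.FiniteType A B] [FaithfulSMul A B] {d : ℕ} (b : Fin d → B)
    (Qx : Ideal B) [Qx.IsPrime] (hbx : ∀ i, b i ∈ Qx)
    (hqf : letI : Algebra (MvPolynomial (Fin d) A) B := (aeval b).toRingHom.toAlgebra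
      Algebra.QuasiFiniteAt (MvPolynomial (Fin d) A) Qx)
    (htr : (d : Cardinal.{u}) ≤ Algebra.trdeg A B) :
    ∃ q : Ideal B, q.IsPrime ∧ q ≤ Qx ∧ q.comap (algebraMap A B) = ⊥ ∧ ∀ i, b i ∈ q := by
  have hind := algebraicIndependent_of_quasiFiniteAt b Qx hqf htr
  let K := FractionRing A
  let L := FractionRing B
  haveI : FaithfulSMul A L := (faithfulSMul_iff_algebraMap_injective _ _).mpr <| by
    rw [IsScalarTower.algebraMap_eq A B L]
    exact (IsFractionRing.injective B L).comp (FaithfulSMul.algebraMap_injective A B)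
  letI : Algebra K L := FractionRing.liftAlgebra A L
  haveI : IsFractionRing (integralClosure A K) K := integralClosure.isFractionRing_of_finite_extension K K
  haveI : IsIntegrallyClosed (integralClosure A K) :=
    (isIntegrallyClosed_iff K).mpr fun {x} hx => ⟨⟨x, isIntegral_trans x hx⟩, rfl⟩
  haveI : FaithfulSMul A (integralClosure A K) :=
    (faithfulSMul_iff_algebraMap_injective _ _).mpr fun a c h =>
      IsFractionRing.injective A K (congrArg Subtype.val h :)
  haveI : IsScalarTower A K L := FractionRing.isScalarTower_liftAlgebra A L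
  exact exists_prime_generic_of_normal b Qx hbx hqf hind (integralClosure A K) L
    (IsFractionRing.injective B L) ((algebraMap K L).injective.comp Subtype.val_injective)

end GrothLib.QSec28
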